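import Groth.Agent.Lib.SmoothArtin29.Basic
import Mathlib.AlgebraicGeometry.Morphisms.ClosedImmersion
import Mathlib.AlgebraicGeometry.PullbackCarrier
import Groth.Agent.Lib.RedSep.Basic
import Groth.Agent.Lib.RelCyc15.Length
import Groth.Prelude.Def_FDesc

/-!
# Lengths at maximal points under flat base change
-/

set_option autoImplicit false
universe u
set_option linter.style.haveILetI false
set_option backward.isDefEq.respectTransparency false

open CategoryTheory CategoryTheory.Limits AlgebraicGeometry TensorProduct IsLocalRing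

namespace Groth.Agent.FBase12

theorem isArtinianRing_stalk_of_max {X : Scheme.{u}} [IsLocallyNoetherian X] (x : X)
    (h : ∀ z, z ⤳ x → z = x) : IsArtinianRing (X.presheaf.stalk x) := by
  have hsub : Subsingleton (Spec (X.presheaf.stalk x)) := ⟨fun a b => by
    refine (X.fromSpecStalk x).isEmbedding.injective ?_
    have h' : ∀ q, X.fromSpecStalk x q = x := fun q => h _ (by
      have : X.fromSpecStalk x q ∈ Set.range (X.fromSpecStalk x) := ⟨q, rfl⟩
      rwa [Scheme.range_fromSpecStalk] at this)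
    rw [h', h']⟩
  haveI : Ring.KrullDimLE 0 (X.presheaf.stalk x) := Ring.KrullDimLE.mk₀ fun I hI => by
    have h1 := congrArg PrimeSpectrum.asIdeal (hsub.elim ⟨I, hI⟩ (IsLocalRing.closedPoint _))
    change I = _ at h1
    rw [h1]
    exact IsLocalRing.maximalIdeal.isMaximal _
  exact isArtinianRing_iff_krullDimLE_zero.2 inferInstance

theorem isField_of_reduced_artinian_local (A : Type u) [CommRing A] [IsLocalRing A] [IsArtinianRing A]
    [_root_.IsReduced A] : IsField A := by
  refine IsLocalRing.isField_iff_maximalIdeal_eq.2 ((Submodule.eq_bot_iff _).2 fun a ha => ?_)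
  obtain ⟨n, hn⟩ := IsArtinianRing.isNilpotent_jacobson_bot (R := A)
  have hmem : a ^ n ∈ (⊥ : Ideal A).jacobson ^ n :=
    Ideal.pow_mem_pow (by rw [IsLocalRing.jacobson_eq_maximalIdeal ⊥ bot_ne_top]; exact ha) n
  rw [hn] at hmem
  exact IsNilpotent.eq_zero ⟨n, hmem⟩

theorem maximalIdeal_le_ker {A C : Type u} [CommRing A] [IsLocalRing A] [IsArtinianRing A]
    [CommRing C] [_root_.IsReduced C] (φ : A →+* C) : maximalIdeal A ≤ RingHom.ker φ := by
  intro a ha
  obtain ⟨n, hn⟩ := IsArtinianRing.isNilpotent_jacobson_bot (R := A)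
  have hmem : a ^ n ∈ (⊥ : Ideal A).jacobson ^ n :=
    Ideal.pow_mem_pow (by rw [IsLocalRing.jacobson_eq_maximalIdeal ⊥ bot_ne_top]; exact ha) n
  rw [hn] at hmem
  exact IsNilpotent.eq_zero (IsNilpotent.map ⟨n, hmem⟩ φ)

theorem length_eq_mul_of_flat {A B : Type u} [CommRing A] [IsLocalRing A] [IsArtinianRing A] [CommRing B]
    (φ : A →+* B) (hφ : φ.Flat) :
    Module.length B B = Module.length A A * Module.length B (B ⧸ (maximalIdeal A).map φ) := by
  letI : Algebra A B := φ.toAlgebra
  haveI : Module.Flat A B := hφ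
  have h := SmoothArtin29.length_baseChange (A := A) (B := B) A
    (isFiniteLength_iff_isNoetherian_isArtinian.mpr ⟨inferInstance, inferInstance⟩)
  rw [(AlgebraTensorModule.rid A B B).length_eq] at h
  rw [h]
  congr 1
  exact (Algebra.TensorProduct.quotIdealMapEquivTensorQuot B (maximalIdeal A)).toLinearEquiv.length_eq.symm

-- The next two declarations are copied from Cyc26/PullKer, to keep the imports small.
/-- The transported map of stalks. -/
noncomputable def stalkTo {X D : Scheme.{u}} (i : D ⟶ X) (x : D) {y : X} (e : y = i x) :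
    X.presheaf.stalk y →+* D.presheaf.stalk x :=
  (i.stalkMap x).hom.comp (X.presheaf.stalkSpecializes (specializes_of_eq e.symm)).hom

theorem ker_stalkMap_pullback_fst {X D D' P : Scheme.{u}} {p : P ⟶ D} {pq : P ⟶ D'} (i : D ⟶ X) (i' : D' ⟶ X)
    [IsClosedImmersion i'] (hpb : IsPullback p pq i i') (z : P) :
    RingHom.ker (p.stalkMap z).hom ≤
      (RingHom.ker (i'.stalkMap (pq z)).hom).map
        (stalkTo i (p z) (y := i' (pq z)) (by rw [← Scheme.Hom.comp_apply, ← Scheme.Hom.comp_apply, hpb.w])) := by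
  haveI : IsClosedImmersion p := MorphismProperty.of_isPullback hpb.flip ‹IsClosedImmersion i'›
  set z' := pq z with hz'
  set x := p z with hx
  have e : i' z' = i x := by
    rw [hz', hx, ← Scheme.Hom.comp_apply, ← Scheme.Hom.comp_apply, hpb.w]
  set σ := stalkTo i x e with hσ
  set I := (RingHom.ker (i'.stalkMap z').hom).map σ with hI
  haveI hspec : IsLocalHom (X.presheaf.stalkSpecializes (specializes_of_eq e.symm)).hom := by
    haveI : IsIso (X.presheaf.stalkSpecializes (specializes_of_eq e.symm)) :=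
      ⟨X.presheaf.stalkSpecializes (specializes_of_eq e), by simp, by simp⟩
    infer_instance
  haveI hσl : IsLocalHom σ := by rw [hσ, stalkTo]; infer_instance
  have hImax : I ≤ maximalIdeal (D.presheaf.stalk x) := by
    refine Ideal.map_le_iff_le_comap.2 fun a ha => ?_
    show σ a ∈ maximalIdeal _
    refine (IsLocalRing.mem_maximalIdeal _).2 fun hu => ?_
    exact ((hu.of_map σ a).map (i'.stalkMap z').hom).ne_zero (RingHom.mem_ker.1 ha)
  haveI : Nontrivial (D.presheaf.stalk x ⧸ I) :=
    Ideal.Quotient.nontrivial_iff.2 fun h => (maximalIdeal.isMaximal (D.presheaf.stalk x)).ne_top (top_le_iff.1 (h ▸ hImax))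
  haveI : IsLocalRing (D.presheaf.stalk x ⧸ I) := IsLocalRing.of_surjective' (Ideal.Quotient.mk I) Ideal.Quotient.mk_surjective
  let Q : CommRingCat.{u} := CommRingCat.of (D.presheaf.stalk x ⧸ I)
  let mk : D.presheaf.stalk x ⟶ Q := CommRingCat.ofHom (Ideal.Quotient.mk I)
  haveI : IsLocalHom mk.hom := IsLocalHom.of_surjective (Ideal.Quotient.mk I) Ideal.Quotient.mk_surjective
  let φ₀ : D'.presheaf.stalk z' →+* D.presheaf.stalk x ⧸ I :=
    RingHom.liftOfSurjective (i'.stalkMap z').hom (i'.stalkMap_surjective z')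
      ⟨(Ideal.Quotient.mk I).comp σ, fun a ha => Ideal.Quotient.eq_zero_iff_mem.2 (Ideal.mem_map_of_mem σ ha)⟩
  have hφ₀ : ∀ a, φ₀ (i'.stalkMap z' a) = Ideal.Quotient.mk I (σ a) := fun a =>
    RingHom.liftOfSurjective_comp_apply (f := (i'.stalkMap z').hom) (i'.stalkMap_surjective z')
      ⟨(Ideal.Quotient.mk I).comp σ, fun a ha => Ideal.Quotient.eq_zero_iff_mem.2 (Ideal.mem_map_of_mem σ ha)⟩ a
  let φ : D'.presheaf.stalk z' ⟶ Q := CommRingCat.ofHom φ₀
  let q₁ : Spec Q ⟶ D := Spec.map mk ≫ D.fromSpecStalk x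
  let q₂ : Spec Q ⟶ D' := Spec.map φ ≫ D'.fromSpecStalk z'
  have hcomm : q₁ ≫ i = q₂ ≫ i' := by
    have hring : (X.presheaf.stalkSpecializes (specializes_of_eq e.symm) ≫ i.stalkMap x) ≫ mk = i'.stalkMap z' ≫ φ :=
      CommRingCat.hom_ext (RingHom.ext fun a => (hφ₀ a).symm)
    calc q₁ ≫ i = Spec.map mk ≫ Spec.map (i.stalkMap x) ≫ X.fromSpecStalk (i x) := by
          rw [Category.assoc, Scheme.SpecMap_stalkMap_fromSpecStalk]
      _ = Spec.map ((X.presheaf.stalkSpecializes (specializes_of_eq e.symm) ≫ i.stalkMap x) ≫ mk) ≫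
          X.fromSpecStalk (i' z') := by
          rw [Spec.map_comp, Spec.map_comp, Category.assoc, Category.assoc,
            Scheme.SpecMap_stalkSpecializes_fromSpecStalk]
      _ = q₂ ≫ i' := by
          rw [hring, Spec.map_comp, Category.assoc, Scheme.SpecMap_stalkMap_fromSpecStalk, ← Category.assoc]
  let h := hpb.lift q₁ q₂ hcomm
  have hfst : h ≫ p = q₁ := hpb.lift_fst _ _ _
  have hq : q₁ (closedPoint Q) = x := by
    rw [Scheme.Hom.comp_apply, Spec_closedPoint, Scheme.fromSpecStalk_closedPoint]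
  have hc : h (closedPoint Q) = z := by
    refine p.isClosedEmbedding.injective ?_
    rw [← Scheme.Hom.comp_apply, hfst, hq]
  intro a ha
  obtain ⟨V, hV, a₀, rfl⟩ := D.presheaf.exists_germ_eq a
  have hV1 : q₁ (closedPoint Q) ∈ V := by rw [hq]; exact hV
  have hV2 : p (h (closedPoint Q)) ∈ V := by rw [hc]; exact hV
  have h1 := ConcreteCategory.congr_hom (Scheme.germ_stalkClosedPointTo_Spec_fromSpecStalk mk V hV1) a₀
  have h2 : Scheme.stalkClosedPointTo (h ≫ p) (D.presheaf.germ V ((h ≫ p) (closedPoint Q)) hV2 a₀) = 0 := by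
    rw [Scheme.stalkClosedPointTo_comp]
    show Scheme.stalkClosedPointTo h (p.stalkMap (h (closedPoint Q)) (D.presheaf.germ V _ hV2 a₀)) = 0
    have h3 : p.stalkMap (h (closedPoint Q)) (D.presheaf.germ V _ hV2 a₀) = 0 := by
      have h4 : P.presheaf.germ (p ⁻¹ᵁ V) z hV (p.app V a₀) = 0 := by
        rw [← Scheme.Hom.germ_stalkMap_apply]
        exact ha
      rw [Scheme.Hom.germ_stalkMap_apply]
      have key : ∀ w (hw : w = z) (hwV : w ∈ p ⁻¹ᵁ V), P.presheaf.germ (p ⁻¹ᵁ V) w hwV (p.app V a₀) = 0 := by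
        rintro w rfl hwV
        exact h4
      exact key _ hc _
    rw [h3, map_zero]
  have key : ∀ (q : Spec Q ⟶ D), q = q₁ → ∀ (hq' : q (closedPoint Q) ∈ V),
      Scheme.stalkClosedPointTo q (D.presheaf.germ V (q (closedPoint Q)) hq' a₀) = 0 →
      Scheme.stalkClosedPointTo q₁ (D.presheaf.germ V (q₁ (closedPoint Q)) hV1 a₀) = 0 := by
    rintro q rfl hq' hh
    exact hh
  exact Ideal.Quotient.eq_zero_iff_mem.1 (h1.symm.trans (key _ hfst _ h2))


/-- The map of local rings of the base. -/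
noncomputable def base {X X' Y Y' : Scheme.{u}} {f : X ⟶ Y} {f' : X' ⟶ Y'} {i : X ⟶ X'} {j : Y ⟶ Y'}
    (sq : IsPullback i f f' j) (x : X) : Y'.presheaf.stalk (f' (i x)) ⟶ Y.presheaf.stalk (f x) :=
  (Y'.presheaf.stalkCongr (Inseparable.of_eq (congrArg (fun t : X ⟶ Y' => t x) sq.w : f' (i x) = j (f x)))).hom ≫
    j.stalkMap (f x)

theorem base_comm {X X' Y Y' : Scheme.{u}} {f : X ⟶ Y} {f' : X' ⟶ Y'} {i : X ⟶ X'} {j : Y ⟶ Y'}
    (sq : IsPullback i f f' j) (x : X) : f'.stalkMap (i x) ≫ i.stalkMap x = base sq x ≫ f.stalkMap x := by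
  rw [← Scheme.Hom.stalkMap_comp, Scheme.Hom.stalkMap_congr_hom (i ≫ f') (f ≫ j) sq.w, Scheme.Hom.stalkMap_comp]
  simp only [base, Category.assoc]

theorem ker_stalkMap_le_map_base {X X' Y Y' : Scheme.{u}} {f : X ⟶ Y} {f' : X' ⟶ Y'} {i : X ⟶ X'} {j : Y ⟶ Y'}
    [IsClosedImmersion j] (sq : IsPullback i f f' j) (x : X) :
    RingHom.ker (i.stalkMap x).hom ≤ (RingHom.ker (base sq x).hom).map (f'.stalkMap (i x)).hom := by
  refine (ker_stalkMap_pullback_fst f' j sq x).trans (Ideal.map_le_iff_le_comap.2 fun a ha => ?_)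
  rw [Ideal.mem_comap]
  refine Ideal.mem_map_of_mem (f'.stalkMap (i x)).hom ?_
  rw [RingHom.mem_ker, base, TopCat.Presheaf.stalkCongr_hom]
  change j.stalkMap (f x) ((Y'.presheaf.stalkSpecializes _ ≫ Y'.presheaf.stalkSpecializes _) a) = 0
  rw [TopCat.Presheaf.stalkSpecializes_comp, TopCat.Presheaf.stalkSpecializes_refl]
  exact ha

/-- Flat base change multiplies lengths at maximal points by the length over the reduction. -/
theorem length_eq_of_isPullback {X X' Y Y' : Scheme.{u}} {f : X ⟶ Y} {f' : X' ⟶ Y'} {i : X ⟶ X'} {j : Y ⟶ Y'}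
    [IsClosedImmersion j] [Flat f'] [AlgebraicGeometry.IsReduced Y] (sq : IsPullback i f f' j) (x : X)
    [IsArtinianRing (Y'.presheaf.stalk (f' (i x)))] :
    Module.length (X'.presheaf.stalk (i x)) (X'.presheaf.stalk (i x)) =
      Module.length (Y'.presheaf.stalk (f' (i x))) (Y'.presheaf.stalk (f' (i x))) *
        Module.length (X.presheaf.stalk x) (X.presheaf.stalk x) := by
  haveI : IsClosedImmersion i := MorphismProperty.of_isPullback (P := @IsClosedImmersion) sq.flip ‹_›
  rw [length_eq_mul_of_flat (f'.stalkMap (i x)).hom (Flat.stalkMap f' (i x))]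
  congr 1
  have hb : RingHom.ker (base sq x).hom = maximalIdeal (Y'.presheaf.stalk (f' (i x))) :=
    le_antisymm (IsLocalRing.le_maximalIdeal (RingHom.ker_ne_top _)) (maximalIdeal_le_ker _)
  have hker : RingHom.ker (i.stalkMap x).hom = (maximalIdeal (Y'.presheaf.stalk (f' (i x)))).map (f'.stalkMap (i x)).hom := by
    refine le_antisymm (hb ▸ ker_stalkMap_le_map_base sq x) (Ideal.map_le_iff_le_comap.2 fun a ha => ?_)
    rw [← hb, RingHom.mem_ker] at ha
    rw [Ideal.mem_comap, RingHom.mem_ker]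
    have h2 := ConcreteCategory.congr_hom (base_comm sq x) a
    rw [CommRingCat.comp_apply, CommRingCat.comp_apply, ha, map_zero] at h2
    exact h2
  let e := (Ideal.quotEquivOfEq hker.symm).trans (RingHom.quotientKerEquivOfSurjective (i.stalkMap_surjective x))
  rw [Module.length_eq_of_surjective (R := X'.presheaf.stalk (i x) ⧸ (maximalIdeal (Y'.presheaf.stalk (f' (i x)))).map (f'.stalkMap (i x)).hom)
    (S := X'.presheaf.stalk (i x)) (M := X'.presheaf.stalk (i x) ⧸ (maximalIdeal (Y'.presheaf.stalk (f' (i x)))).map (f'.stalkMap (i x)).hom)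
    Ideal.Quotient.mk_surjective]
  exact RelCyc15.length_self_eq_of_equiv e

variable {k k' k'' : Type u} [Field k] [Field k'] [Field k''] [Algebra k k'] [Algebra k' k''] {X : Scheme.{u}}
  (f : X ⟶ Spec (CommRingCat.of k))

theorem isPullback_red :
    IsPullback (pullback.map ((FBase.bc f k').nilradical.subschemeι ≫ FBase.bcStr f k')
        (Spec.map (CommRingCat.ofHom (algebraMap k' k''))) (FBase.bcStr f k')
        (Spec.map (CommRingCat.ofHom (algebraMap k' k''))) (FBase.bc f k').nilradical.subschemeι (𝟙 _) (𝟙 _)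
        (Category.comp_id _) ((Category.comp_id _).trans (Category.id_comp _).symm))
      (pullback.fst _ _) (FBase.bcπ (FBase.bcStr f k') k'') (FBase.bc f k').nilradical.subschemeι := by
  refine IsPullback.of_right (h₁₂ := pullback.snd _ _) ?_ (pullback.lift_fst _ _ _) (IsPullback.of_hasPullback _ _).flip
  rw [pullback.lift_snd, Category.comp_id]
  exact (IsPullback.of_hasPullback _ _).flip

theorem length_bc_eq_mul [IsLocallyNoetherian (FBase.bc f k')] (x'' : ↥(FBase.bc (FBase.bcStr f k') k''))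
    (hx'' : ∀ z : ↥(FBase.bc (FBase.bcStr f k') k''), z ⤳ x'' → z = x'')
    (z'' : ↥(FBase.bc ((FBase.bc f k').nilradical.subschemeι ≫ FBase.bcStr f k') k''))
    (hz'' : pullback.map ((FBase.bc f k').nilradical.subschemeι ≫ FBase.bcStr f k')
        (Spec.map (CommRingCat.ofHom (algebraMap k' k''))) (FBase.bcStr f k')
        (Spec.map (CommRingCat.ofHom (algebraMap k' k''))) (FBase.bc f k').nilradical.subschemeι (𝟙 _) (𝟙 _)
        (Category.comp_id _) ((Category.comp_id _).trans (Category.id_comp _).symm) z'' = x'') :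
    IsArtinianRing ((FBase.bc f k').presheaf.stalk (FBase.bcπ (FBase.bcStr f k') k'' x'')) ∧
    Module.length ((FBase.bc (FBase.bcStr f k') k'').presheaf.stalk x'') ((FBase.bc (FBase.bcStr f k') k'').presheaf.stalk x'') =
      Module.length ((FBase.bc f k').presheaf.stalk (FBase.bcπ (FBase.bcStr f k') k'' x''))
          ((FBase.bc f k').presheaf.stalk (FBase.bcπ (FBase.bcStr f k') k'' x'')) *
        Module.length ((FBase.bc ((FBase.bc f k').nilradical.subschemeι ≫ FBase.bcStr f k') k'').presheaf.stalk z'')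
          ((FBase.bc ((FBase.bc f k').nilradical.subschemeι ≫ FBase.bcStr f k') k'').presheaf.stalk z'') := by
  haveI : Flat (Spec.map (CommRingCat.ofHom (algebraMap k' k''))) := by
    rw [HasRingHomProperty.Spec_iff (P := @Flat)]
    exact RingHom.flat_algebraMap_iff.mpr inferInstance
  haveI : Flat (FBase.bcπ (FBase.bcStr f k') k'') := MorphismProperty.pullback_fst _ _ inferInstance
  haveI hart : IsArtinianRing ((FBase.bc f k').presheaf.stalk (FBase.bcπ (FBase.bcStr f k') k'' x'')) := by
    refine isArtinianRing_stalk_of_max _ fun z hz => ?_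
    obtain ⟨w, hw, rfl⟩ := Flat.generalizingMap (f := FBase.bcπ (FBase.bcStr f k') k'') hz
    rw [hx'' w hw]
  refine ⟨hart, ?_⟩
  subst hz''
  haveI := RedSepLib.isReduced_nilradical_subscheme (FBase.bc f k')
  haveI := hart
  exact length_eq_of_isPullback (isPullback_red f) z''

end Groth.Agent.FBase12
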