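import Groth.Agent.S2511
import Mathlib.RingTheory.EssentialFiniteness

/-!
# The fibres of a locally noetherian scheme are locally noetherian
-/

set_option autoImplicit false
universe u
set_option linter.style.haveILetI false
set_option backward.isDefEq.respectTransparency false

open CategoryTheory CategoryTheory.Limits AlgebraicGeometry TensorProduct

namespace Groth.Agent.FBase12

theorem isNoetherianRing_residueField_tensor {A B : Type u} [CommRing A] [CommRing B] [Algebra A B] [IsNoetherianRing B]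
    (P : Ideal A) [P.IsPrime] : IsNoetherianRing (P.ResidueField ⊗[A] B) := by
  haveI : Algebra.EssFiniteType A P.ResidueField :=
    Algebra.EssFiniteType.comp A (Localization.AtPrime P) P.ResidueField
  haveI : IsNoetherianRing (B ⊗[A] P.ResidueField) := Algebra.EssFiniteType.isNoetherianRing B _
  exact isNoetherianRing_of_ringEquiv _ (Algebra.TensorProduct.comm A B P.ResidueField).toRingEquiv

theorem isLocallyNoetherian_fibre {X Y : Scheme.{u}} [IsLocallyNoetherian X] (f : X ⟶ Y) (y : Y) :
    IsLocallyNoetherian (f.fiber y) := by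
  have key : ∀ z : f.fiber y, ∃ (R : CommRingCat.{u}) (m : Spec R ⟶ f.fiber y),
      IsOpenImmersion m ∧ IsNoetherianRing R ∧ z ∈ Set.range m := by
    intro z
    have hy : f (f.fiberι y z) = y := (f.range_fiberι y).le ⟨z, rfl⟩
    obtain ⟨V, hV, hyV, -⟩ := exists_isAffineOpen_mem_and_subset (show y ∈ (⊤ : Y.Opens) from trivial)
    obtain ⟨U, hU, hxU, hUV⟩ := exists_isAffineOpen_mem_and_subset (show f.fiberι y z ∈ f ⁻¹ᵁ V from (by rw [hy]; exact hyV : f (f.fiberι y z) ∈ V))
    let g := f.appLE V U hUV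
    algebraize [g.hom]
    let G : Γ(Y, V) ⟶ Γ(X, U) := CommRingCat.ofHom (algebraMap Γ(Y, V) Γ(X, U))
    haveI : IsNoetherianRing Γ(X, U) := IsLocallyNoetherian.component_noetherian ⟨U, hU⟩
    let P := hV.primeIdealOf ⟨y, hyV⟩
    let ρ := Spec.map (CommRingCat.ofHom (algebraMap Γ(Y, V) P.asIdeal.ResidueField))
    have hP : hV.fromSpec P = y := hV.fromSpec_primeIdealOf _
    obtain ⟨e, hiso, he⟩ : ∃ e : Spec (CommRingCat.of P.asIdeal.ResidueField) ⟶ Spec (Y.residueField y),
        IsIso e ∧ e ≫ Y.fromSpecResidueField y = ρ ≫ hV.fromSpec := by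
      refine ⟨Spec.map (Scheme.Spec.residueFieldIso Γ(Y, V) P).hom ≫ Spec.map (hV.fromSpec.residueFieldMap P) ≫
        Spec.map (Y.residueFieldCongr hP.symm).hom, inferInstance, ?_⟩
      rw [Category.assoc, Category.assoc, Scheme.residueFieldCongr_fromSpecResidueField,
        Scheme.Hom.SpecMap_residueFieldMap_fromSpecResidueField,
        ← Scheme.Spec.map_residueFieldIso_inv_eq_fromSpecResidueField, ← Category.assoc, ← Category.assoc,
        ← Spec.map_comp, Iso.inv_hom_id, Spec.map_id, Category.id_comp]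
    have hsq : Spec.map G ≫ hV.fromSpec = hU.fromSpec ≫ f := IsAffineOpen.SpecMap_appLE_fromSpec f hV hU hUV
    let m : pullback (Spec.map G ≫ hV.fromSpec) (ρ ≫ hV.fromSpec) ⟶ f.fiber y :=
      pullback.map _ _ f (Y.fromSpecResidueField y) hU.fromSpec e (𝟙 Y) (by rw [Category.comp_id, hsq]) (by rw [Category.comp_id, he])
    haveI : IsOpenImmersion m := MorphismProperty.pullbackMap (P := @IsOpenImmersion) inferInstance inferInstance hsq he.symm
    let T := P.asIdeal.ResidueField ⊗[Γ(Y, V)] Γ(X, U)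
    let i : Spec (CommRingCat.of T) ≅ pullback (Spec.map G ≫ hV.fromSpec) (ρ ≫ hV.fromSpec) :=
      (pullbackSpecIso Γ(Y, V) P.asIdeal.ResidueField Γ(X, U)).symm ≪≫ pullbackSymmetry _ _ ≪≫
        (Groth.Agent.S2511.pullbackCompMonoIso (Spec.map G) ρ hV.fromSpec)
    refine ⟨CommRingCat.of T, i.hom ≫ m, inferInstance, isNoetherianRing_residueField_tensor P.asIdeal, ?_⟩
    have hr : Set.range (i.hom ≫ m) = Set.range m := i.hom.surjective.range_comp m
    rw [hr]
    refine (Scheme.Pullback.range_map _ _ _ _ hU.fromSpec e (𝟙 Y) _ _).ge ?_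
    exact ⟨(hU.range_fromSpec).ge hxU, e.surjective _⟩
  choose R m hm hR hz using key
  let 𝒰 : (f.fiber y).OpenCover :=
    { I₀ := f.fiber y, X := fun z => Spec (R z), f := m,
      mem₀ := by
        rw [Scheme.presieve₀_mem_precoverage_iff]
        exact ⟨fun z => ⟨z, hz z⟩, hm⟩ }
  haveI : ∀ z, IsLocallyNoetherian (𝒰.X z) := fun z => by
    haveI := hR z
    exact inferInstanceAs (IsLocallyNoetherian (Spec (R z)))
  exact (isLocallyNoetherian_iff_openCover 𝒰).mpr ‹_›

end Groth.Agent.FBase12
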