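import Groth.Agent.Lib.AssField12.Basic

/-!
# The structure module is a reduced module exactly for reduced schemes
-/

set_option autoImplicit false
universe u
set_option linter.style.haveILetI false
set_option backward.isDefEq.respectTransparency false

open CategoryTheory CategoryTheory.Limits AlgebraicGeometry TopologicalSpace IsLocalRing

namespace Groth.Agent.FBase12

variable {Z : Scheme.{u}}

theorem isField_stalk_of_ass [AlgebraicGeometry.IsReduced Z] {z : Z}
    (hz : z ∈ AssSch.Ass (Coh.structureModule Z)) : IsField (Z.presheaf.stalk z) := by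
  rw [AssField12.mem_ass_structureModule_iff] at hz
  obtain ⟨hp, a, ha⟩ := hz
  have hmul : ∀ r ∈ maximalIdeal (Z.presheaf.stalk z), r * a = 0 := fun r hr => by
    rw [ha] at hr
    obtain ⟨n, hn⟩ := hr
    rw [Submodule.mem_colon_singleton, Submodule.mem_bot, smul_eq_mul] at hn
    exact IsNilpotent.eq_zero ⟨n + 1, by rw [mul_pow, pow_succ' a, ← mul_assoc, pow_succ r, mul_assoc (r ^ n) r a,
      mul_comm r a, ← mul_assoc (r ^ n), hn, zero_mul, zero_mul]⟩
  have hau : IsUnit a := by
    by_contra hna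
    have h2 : a * a = 0 := hmul a ((mem_maximalIdeal a).2 hna)
    have ha0 : a = 0 := IsNilpotent.eq_zero ⟨2, by rw [pow_two, h2]⟩
    exact hp.ne_top (by rw [ha, ha0]; simp)
  exact IsLocalRing.isField_iff_maximalIdeal_eq.2
    ((Submodule.eq_bot_iff _).2 fun r hr => hau.mul_left_eq_zero.1 (hmul r hr))

theorem eq_of_specializes_of_isField {z y : Z} (hf : IsField (Z.presheaf.stalk z)) (h : y ⤳ z) : y = z := by
  have h1 : y ∈ Set.range (Z.fromSpecStalk z) := by rw [Scheme.range_fromSpecStalk]; exact h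
  obtain ⟨p, rfl⟩ := h1
  letI := hf.toField
  haveI : Subsingleton (Spec (Z.presheaf.stalk z)) := inferInstanceAs (Subsingleton (PrimeSpectrum (Z.presheaf.stalk z)))
  rw [Subsingleton.elim p (IsLocalRing.closedPoint (Z.presheaf.stalk z)), Scheme.fromSpecStalk_closedPoint]

theorem isField_stalk_of_max [AlgebraicGeometry.IsReduced Z] (z : Z) (h : ∀ y, y ⤳ z → y = z) :
    IsField (Z.presheaf.stalk z) := by
  have hsub : Subsingleton (Spec (Z.presheaf.stalk z)) := ⟨fun a b => by
    refine (Z.fromSpecStalk z).isEmbedding.injective ?_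
    have h' : ∀ q, Z.fromSpecStalk z q = z := fun q => h _ (by
      have : Z.fromSpecStalk z q ∈ Set.range (Z.fromSpecStalk z) := ⟨q, rfl⟩
      rwa [Scheme.range_fromSpecStalk] at this)
    rw [h', h']⟩
  refine IsLocalRing.isField_iff_maximalIdeal_eq.2 ((Submodule.eq_bot_iff _).2 fun a ha => ?_)
  refine IsNilpotent.eq_zero (nilpotent_iff_mem_prime.2 fun P hP => ?_)
  have h1 := congrArg PrimeSpectrum.asIdeal (hsub.elim ⟨P, hP⟩ (IsLocalRing.closedPoint _))
  change P = _ at h1
  rw [h1]
  exact ha

theorem isReducedMod_structureModule [AlgebraicGeometry.IsReduced Z] :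
    AssSch.IsReducedMod (Coh.structureModule Z) := by
  refine ⟨fun x hx y _ hyx => (eq_of_specializes_of_isField (isField_stalk_of_ass hx) hyx).symm, fun x hx => ?_⟩
  rw [← (AssField12.stEquiv x).length_eq]
  letI := (isField_stalk_of_ass hx).toField
  exact Module.length_eq_one_iff.2 inferInstance

theorem isField_of_length_one {R : Type u} [CommRing R] [IsLocalRing R] (h : Module.length R R = 1) : IsField R := by
  haveI := Module.length_eq_one_iff.1 h
  haveI : IsSimpleOrder (Ideal R) := inferInstanceAs (IsSimpleOrder (Submodule R R))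
  exact IsLocalRing.isField_iff_maximalIdeal_eq.2
    ((eq_bot_or_eq_top _).resolve_right (maximalIdeal.isMaximal R).ne_top)

theorem isReduced_of_isReducedMod [IsLocallyNoetherian Z] (h : AssSch.IsReducedMod (Coh.structureModule Z)) :
    AlgebraicGeometry.IsReduced Z := by
  haveI : Coh.IsQCoh (Coh.structureModule Z) := M1.isQCoh_structureModule Z
  refine ⟨fun V => ⟨fun s hs => ?_⟩⟩
  let S : Set Z.Opens := {W | ∃ e : W ≤ V, Z.presheaf.map (homOfLE e).op s = 0}
  have hle : sSup S ≤ V := sSup_le fun W hW => hW.1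
  refine WA.res_injective (F := Coh.structureModule Z) hle (fun x hx hwa => ?_) (a₁ := s) (a₂ := 0) ?_
  · have hf : IsField (Z.presheaf.stalk x) := isField_of_length_one
      ((AssField12.stEquiv x).length_eq.trans (h.2 x (AssPts11.mem_ass_iff.2 hwa)))
    letI := hf.toField
    have h0 : Z.presheaf.germ V x hx s = 0 := (hs.map (Z.presheaf.germ V x hx).hom).eq_zero
    obtain ⟨W, hxW, i1, i2, hW⟩ := Z.presheaf.germ_eq x hx hx s 0 (by rw [h0, map_zero])
    exact Opens.mem_sSup.2 ⟨W, ⟨i1.le, hW.trans (map_zero _)⟩, hxW⟩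
  · rw [map_zero]
    change (Z.presheaf.map (homOfLE hle).op s : Γ(Z, sSup S)) = 0
    apply TopCat.Presheaf.section_ext Z.sheaf
    intro x hx
    obtain ⟨W, ⟨e, hW⟩, hxW⟩ := Opens.mem_sSup.1 hx
    show Z.presheaf.germ (sSup S) x hx (Z.presheaf.map (homOfLE hle).op s) = Z.presheaf.germ (sSup S) x hx 0
    rw [map_zero, TopCat.Presheaf.germ_res_apply, ← Z.presheaf.germ_res_apply (homOfLE e) x hxW, hW, map_zero]

end Groth.Agent.FBase12
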