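import Groth.Agent.Lib.FBase12.RedMod
import Groth.Agent.S2546
import Groth.Agent.Lib.GeomRed18.Perfect
import Groth.Agent.Lib.GeomIrr18.FinCrit
import Groth.Agent.Lib.GeomIrr18.Scheme
import Groth.Agent.Lib.GeomIrr18.Comp

/-!
# Reduced and integral modules under extension of the base field
-/

set_option autoImplicit false
universe u
set_option linter.style.haveILetI false
set_option backward.isDefEq.respectTransparency false

open CategoryTheory CategoryTheory.Limits AlgebraicGeometry TopologicalSpace IsLocalRing TensorProduct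

namespace Groth.Agent.FBase12

theorem isReducedMod_congr {X : Scheme.{u}} {F F' : X.Modules} (e : F ≅ F') :
    AssSch.IsReducedMod F ↔ AssSch.IsReducedMod F' := by
  have hl : ∀ x : X, Module.length (X.presheaf.stalk x) (F.presheaf.stalk x) =
      Module.length (X.presheaf.stalk x) (F'.presheaf.stalk x) := fun x =>
    (LinearEquiv.ofBijective (M2.stMap ((M2.pmF X).map e.hom) x) ((M1.isIso_iff_stalk e.hom).mp inferInstance x)).length_eq
  simp only [AssSch.IsReducedMod, AssField12.noEmbedded_congr e, AssFlat15.mem_ass_congr e, hl]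

variable {k : Type u} [Field k] {X : Scheme.{u}} (f : X ⟶ Spec (CommRingCat.of k)) (K : Type u) [Field K] [Algebra k K]

theorem flat_bcπ : Flat (FBase.bcπ f K) := by
  haveI : Flat (Spec.map (CommRingCat.ofHom (algebraMap k K))) := by
    rw [HasRingHomProperty.Spec_iff (P := @Flat)]
    exact RingHom.flat_algebraMap_iff.mpr inferInstance
  exact MorphismProperty.pullback_fst _ _ inferInstance

theorem surjective_bcπ : Surjective (FBase.bcπ f K) := GeomIrr.surjective_fst f K

theorem flatOver_bcπ : FlatMod.IsFlatOver (FBase.bcπ f K) (Coh.structureModule (FBase.bc f K)) :=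
  haveI := flat_bcπ f K
  RelPCS8.flat_iff_isFlatOver_structureModule.1 inferInstance

/-- The pullback of a module is its tensor product with the structure module. -/
noncomputable def bcTensorIso (F : X.Modules) :
    CohB1.tensorMod ((Scheme.Modules.pullback (FBase.bcπ f K)).obj F) (Coh.structureModule (FBase.bc f K)) ≅
      (Scheme.Modules.pullback (FBase.bcπ f K)).obj F :=
  M2.tensorRUnit _

theorem isReducedMod_bc_iff [IsLocallyNoetherian X] [IsLocallyNoetherian (FBase.bc f K)] (F : X.Modules) (hF : Coh.IsCoh F) :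
    AssSch.IsReducedMod ((Scheme.Modules.pullback (FBase.bcπ f K)).obj F) ↔
      ∀ x ∈ AssSch.Ass F, (∀ y ∈ AssSch.Ass F, y ⤳ x → y = x) ∧
        Module.length (X.presheaf.stalk x) (F.presheaf.stalk x) = 1 ∧
        AssSch.IsReducedMod (Coh.structureModule ((FBase.bcπ f K).fiber x)) := by
  rw [← isReducedMod_congr (bcTensorIso f K F),
    Groth.Agent.S2546.result (FBase.bcπ f K) F hF (Coh.structureModule _) (M1.isCoh_structureModule _) (flatOver_bcπ f K)]
  haveI := surjective_bcπ f K
  constructor
  · intro h x hx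
    obtain ⟨z, hz⟩ := (FBase.bcπ f K).surjective x
    obtain ⟨h1, h2, h3⟩ := h x ⟨hx, z, fun hs => not_subsingleton ((FBase.bc f K).presheaf.stalk z)
      ((AssField12.stEquiv z).toEquiv.subsingleton_congr.2 hs), hz⟩
    exact ⟨h1, h2, (isReducedMod_congr (Twist.pullbackUnitIso _)).1 h3⟩
  · intro h x hx
    obtain ⟨h1, h2, h3⟩ := h x hx.1
    exact ⟨h1, h2, (isReducedMod_congr (Twist.pullbackUnitIso _)).2 h3⟩

theorem mem_ass_bc_iff [IsLocallyNoetherian X] [IsLocallyNoetherian (FBase.bc f K)] (F : X.Modules) (x : X)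
    (z : (FBase.bcπ f K).fiber x) :
    (FBase.bcπ f K).fiberι x z ∈ AssSch.Ass ((Scheme.Modules.pullback (FBase.bcπ f K)).obj F) ↔
      x ∈ AssSch.Ass F ∧ z ∈ AssSch.Ass (Coh.structureModule ((FBase.bcπ f K).fiber x)) := by
  rw [← AssFlat15.mem_ass_congr (bcTensorIso f K F), AssFlat15.mem_ass_tensor_iff (FBase.bcπ f K) F _ (flatOver_bcπ f K) x z
    (IsNoetherian.noetherian _) (IsNoetherian.noetherian _), AssFlat15.mem_ass_congr (Twist.pullbackUnitIso _)]

/-- The fibres of the projection. -/
noncomputable def fiberIso (x : X) :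
    (FBase.bcπ f K).fiber x ≅ FBase.bc (X.fromSpecResidueField x ≫ f) K :=
  pullbackSymmetry _ _ ≪≫ pullbackRightPullbackFstIso f (Spec.map (CommRingCat.ofHom (algebraMap k K))) (X.fromSpecResidueField x)

theorem isReduced_bc_spec_iff (L : Type u) [Field L] [Algebra k L] :
    AlgebraicGeometry.IsReduced (pullback (Spec.map (CommRingCat.ofHom (algebraMap k L))) (Spec.map (CommRingCat.ofHom (algebraMap k K)))) ↔
      _root_.IsReduced (L ⊗[k] K) := by
  rw [← affine_isReduced_iff (CommRingCat.of (L ⊗[k] K))]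
  exact ⟨fun _ => isReduced_of_isOpenImmersion (pullbackSpecIso k L K).inv,
    fun _ => isReduced_of_isOpenImmersion (pullbackSpecIso k L K).hom⟩

theorem exists_alg_residue (x : X) : ∃ φ : k →+* X.residueField x,
    Spec.map (CommRingCat.ofHom φ) = X.fromSpecResidueField x ≫ f :=
  ⟨(Spec.preimage (X.fromSpecResidueField x ≫ f)).hom, Spec.map_preimage _⟩

theorem isReduced_fiber_iff (x : X) [Algebra k (X.residueField x)]
    (hφ : Spec.map (CommRingCat.ofHom (algebraMap k (X.residueField x))) = X.fromSpecResidueField x ≫ f) :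
    AlgebraicGeometry.IsReduced ((FBase.bcπ f K).fiber x) ↔ _root_.IsReduced (X.residueField x ⊗[k] K) := by
  rw [← isReduced_bc_spec_iff K (X.residueField x)]
  let e := fiberIso f K x ≪≫ pullback.congrHom hφ.symm rfl
  exact ⟨fun _ => isReduced_of_isOpenImmersion e.inv, fun _ => isReduced_of_isOpenImmersion e.hom⟩

theorem isLocallyNoetherian_bc_finite [IsLocallyNoetherian X] (k' : Type u) [Field k'] [Algebra k k'] [FiniteDimensional k k'] :
    IsLocallyNoetherian (FBase.bc f k') ∧ LocallyOfFiniteType (FBase.bcπ f k') := by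
  haveI : IsFinite (Spec.map (CommRingCat.ofHom (algebraMap k k'))) :=
    (IsFinite.SpecMap_iff _).mpr (RingHom.finite_algebraMap.mpr inferInstance)
  haveI : IsFinite (FBase.bcπ f k') := MorphismProperty.pullback_fst _ _ inferInstance
  exact ⟨LocallyOfFiniteType.isLocallyNoetherian (FBase.bcπ f k'), inferInstance⟩

theorem isLocallyNoetherian_fiber [LocallyOfFiniteType (FBase.bcπ f K)] (x : X) :
    IsLocallyNoetherian ((FBase.bcπ f K).fiber x) := by
  haveI : LocallyOfFiniteType ((FBase.bcπ f K).fiberToSpecResidueField x) := MorphismProperty.pullback_snd _ _ inferInstance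
  exact LocallyOfFiniteType.isLocallyNoetherian ((FBase.bcπ f K).fiberToSpecResidueField x)

/-- Geometric reducedness of the residue field at the points where the fibres over all finite purely
inseparable extensions are reduced. -/
theorem isReduced_fiber_of_forall (x : X)
    (h : ∀ (k' : Type u) [Field k'] [Algebra k k'] [FiniteDimensional k k'] [IsPurelyInseparable k k'],
      AlgebraicGeometry.IsReduced ((FBase.bcπ f k').fiber x)) :
    AlgebraicGeometry.IsReduced ((FBase.bcπ f K).fiber x) := by
  obtain ⟨φ, hφ⟩ := exists_alg_residue f x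
  letI := φ.toAlgebra
  haveI : Algebra.IsGeometricallyReduced k (X.residueField x) :=
    GeomRed.isGeometricallyReduced_of_purelyInseparable _ fun k' _ _ _ _ => (isReduced_fiber_iff f k' x hφ).1 (h k')
  exact (isReduced_fiber_iff f K x hφ).2 (GeomRed.isReduced_tensor_field k K _)

theorem irreducibleSpace_of_iso {A B : Scheme.{u}} (e : A ≅ B) [IrreducibleSpace A] : IrreducibleSpace B :=
  haveI : Surjective e.hom := inferInstance
  GeomIrr.irreducibleSpace_of_surjective e.hom

theorem irreducibleSpace_fiber_of_forall (x : X)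
    (h : ∀ (k' : Type u) [Field k'] [Algebra k k'] [FiniteDimensional k k'] [Algebra.IsSeparable k k'],
      IrreducibleSpace ((FBase.bcπ f k').fiber x)) :
    IrreducibleSpace ((FBase.bcπ f K).fiber x) := by
  let g := X.fromSpecResidueField x ≫ f
  letI : (Spec (X.residueField x)).Over (Spec (CommRingCat.of k)) := ⟨g⟩
  haveI : IrreducibleSpace ↥(pullback g (Spec.map (CommRingCat.ofHom (algebraMap k (SeparableClosure k))))) := by
    refine GeomIrr.irreducibleSpace_bc_separableClosure (k := k) (X := Spec (X.residueField x)) fun k' _ _ _ _ => ?_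
    haveI := h k'
    exact irreducibleSpace_of_iso (fiberIso f k' x)
  haveI : GeometricallyIrreducible g := GeomIrr.geometricallyIrreducible_of_bc g (SeparableClosure k)
  haveI : IrreducibleSpace ↥(FBase.bc g K) :=
    GeometricallyIrreducible.geometrically_irreducibleSpace (f := g) _ _ _ (IsPullback.of_hasPullback _ _)
  exact irreducibleSpace_of_iso (fiberIso f K x).symm

theorem isReducedMod_bc_of_forall [IsLocallyNoetherian X] (F : X.Modules) (hF : Coh.IsCoh F)
    (h : ∀ (k' : Type u) [Field k'] [Algebra k k'] [FiniteDimensional k k'] [IsPurelyInseparable k k'],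
      AssSch.IsReducedMod ((Scheme.Modules.pullback (FBase.bcπ f k')).obj F))
    [IsLocallyNoetherian (FBase.bc f K)] :
    AssSch.IsReducedMod ((Scheme.Modules.pullback (FBase.bcπ f K)).obj F) := by
  rw [isReducedMod_bc_iff f K F hF]
  intro x hx
  haveI := (isLocallyNoetherian_bc_finite f k).1
  obtain ⟨h1, h2, -⟩ := (isReducedMod_bc_iff f k F hF).1 (h k) x hx
  refine ⟨h1, h2, ?_⟩
  haveI := isReduced_fiber_of_forall f K x fun k' _ _ _ _ => by
    obtain ⟨hN, hlft⟩ := isLocallyNoetherian_bc_finite f k'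
    haveI := isLocallyNoetherian_fiber f k' x
    exact isReduced_of_isReducedMod ((isReducedMod_bc_iff f k' F hF).1 (h k') x hx).2.2
  exact isReducedMod_structureModule

theorem single_ass_bc_imp [IsLocallyNoetherian X] [IsLocallyNoetherian (FBase.bc f K)]
    [LocallyOfFiniteType (FBase.bcπ f K)] (F : X.Modules) (hF : Coh.IsCoh F) {x' : ↥(FBase.bc f K)}
    (hA : AssSch.Ass ((Scheme.Modules.pullback (FBase.bcπ f K)).obj F) = {x'})
    (hl : Module.length ↑((FBase.bc f K).presheaf.stalk x')
      ↑(((Scheme.Modules.pullback (FBase.bcπ f K)).obj F).presheaf.stalk x') = 1) :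
    AssSch.Ass F = {FBase.bcπ f K x'} ∧
      Module.length (X.presheaf.stalk (FBase.bcπ f K x')) (F.presheaf.stalk (FBase.bcπ f K x')) = 1 ∧
      AlgebraicGeometry.IsReduced ((FBase.bcπ f K).fiber (FBase.bcπ f K x')) ∧
      IrreducibleSpace ((FBase.bcπ f K).fiber (FBase.bcπ f K x')) := by
  haveI := surjective_bcπ f K
  set π := FBase.bcπ f K with hπ
  have hred : AssSch.IsReducedMod ((Scheme.Modules.pullback π).obj F) := by
    refine ⟨fun a ha b hb _ => ?_, fun a ha => ?_⟩
    · rw [hA] at ha hb
      exact ha.trans hb.symm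
    · rw [hA] at ha
      rw [Set.mem_singleton_iff.1 ha]
      exact hl
  have key := (isReducedMod_bc_iff f K F hF).1 hred
  have hfib : ∀ x ∈ AssSch.Ass F, ∀ z : π.fiber x, (∀ y, y ⤳ z → y = z) → π.fiberι x z = x' := fun x hx z hz => by
    haveI := isLocallyNoetherian_fiber f K x
    haveI := isReduced_of_isReducedMod (key x hx).2.2
    have h1 := (mem_ass_bc_iff f K F x z).2 ⟨hx, AssField12.mem_ass_of_isField (isField_stalk_of_max z hz)⟩
    rw [hA] at h1
    exact h1
  have hmem : π x' ∈ AssSch.Ass F := by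
    have h1 : π.fiberι (π x') (π.asFiber x') ∈ AssSch.Ass ((Scheme.Modules.pullback π).obj F) := by
      rw [π.fiberι_asFiber, hA]; rfl
    exact ((mem_ass_bc_iff f K F (π x') _).1 h1).1
  have hsub : ∀ x ∈ AssSch.Ass F, x = π x' := fun x hx => by
    obtain ⟨a, ha⟩ := π.surjective x
    obtain ⟨z, hz, -⟩ := GeomIrr.exists_maximal_specializes (show π.fiber x from
      ((π.range_fiberι x).ge (show a ∈ π ⁻¹' {x} from ha)).choose)
    rw [← hfib x hx z hz]
    exact ((π.range_fiberι x).le ⟨z, rfl⟩ : π (π.fiberι x z) = x).symm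
  obtain ⟨-, h2, h3⟩ := key _ hmem
  haveI := isLocallyNoetherian_fiber f K (π x')
  refine ⟨Set.eq_singleton_iff_unique_mem.2 ⟨hmem, hsub⟩, h2, isReduced_of_isReducedMod h3, ?_⟩
  obtain ⟨z₀, hz₀, -⟩ := GeomIrr.exists_maximal_specializes (π.asFiber x')
  haveI : Nonempty (π.fiber (π x')) := ⟨z₀⟩
  refine { toPreirreducibleSpace := ⟨?_⟩, toNonempty := inferInstance }
  have hu : closure {z₀} = (Set.univ : Set (π.fiber (π x'))) := Set.eq_univ_of_forall fun w => by
    obtain ⟨z, hz, hzw⟩ := GeomIrr.exists_maximal_specializes w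
    have h4 : z = z₀ := (π.fiberι (π x')).isEmbedding.injective ((hfib _ hmem z hz).trans (hfib _ hmem z₀ hz₀).symm)
    exact specializes_iff_mem_closure.1 (h4 ▸ hzw)
  exact hu ▸ isIrreducible_singleton.closure.2

theorem single_ass_bc [IsLocallyNoetherian X] [IsLocallyNoetherian (FBase.bc f K)] (F : X.Modules) (hF : Coh.IsCoh F)
    {x : X} (hA : AssSch.Ass F = {x}) (hl : Module.length (X.presheaf.stalk x) (F.presheaf.stalk x) = 1)
    [AlgebraicGeometry.IsReduced ((FBase.bcπ f K).fiber x)] [IrreducibleSpace ((FBase.bcπ f K).fiber x)] :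
    ∃ x' : ↥(FBase.bc f K), AssSch.Ass ((Scheme.Modules.pullback (FBase.bcπ f K)).obj F) = {x'} ∧
      Module.length ↑((FBase.bc f K).presheaf.stalk x') ↑(((Scheme.Modules.pullback (FBase.bcπ f K)).obj F).presheaf.stalk x') = 1 := by
  set π := FBase.bcπ f K with hπ
  let η : π.fiber x := genericPoint (π.fiber x)
  have hη : π.fiberι x η ∈ AssSch.Ass ((Scheme.Modules.pullback π).obj F) :=
    (mem_ass_bc_iff f K F x η).2 ⟨hA ▸ rfl, AssField12.mem_ass_of_isField
      (isField_stalk_of_max η fun y hy => (hy.antisymm (genericPoint_specializes y)).eq)⟩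
  have hred : AssSch.IsReducedMod ((Scheme.Modules.pullback π).obj F) := by
    rw [isReducedMod_bc_iff f K F hF]
    intro y hy
    rw [hA] at hy
    obtain rfl := Set.mem_singleton_iff.1 hy
    exact ⟨fun y' hy' _ => Set.mem_singleton_iff.1 (hA.le hy'), hl, isReducedMod_structureModule⟩
  refine ⟨π.fiberι x η, Set.eq_singleton_iff_unique_mem.2 ⟨hη, fun a ha => ?_⟩, hred.2 _ hη⟩
  obtain ⟨w, hw⟩ := (π.range_fiberι (π a)).ge (show a ∈ π ⁻¹' {π a} from rfl)
  obtain ⟨h1, h2⟩ := (mem_ass_bc_iff f K F (π a) w).1 (show π.fiberι (π a) w ∈ _ from hw.symm ▸ ha)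
  have hax : π a = x := Set.mem_singleton_iff.1 (hA.le h1)
  subst hax
  exact hw.symm.trans (congrArg _ (eq_of_specializes_of_isField (isField_stalk_of_ass h2) (genericPoint_specializes w)).symm)

end Groth.Agent.FBase12
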