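import Groth.Agent.Lib.FBase12.ReducedBC
import Groth.Agent.Lib.FBase12.NoethFibre
import Groth.Agent.Lib.AssPts11.OpenRestrict
import Groth.Agent.Lib.FlatH4.PullFlat

/-!
# External tensor products of reduced modules
-/

set_option autoImplicit false
universe u
set_option linter.style.haveILetI false
set_option backward.isDefEq.respectTransparency false

open CategoryTheory CategoryTheory.Limits AlgebraicGeometry TopologicalSpace

namespace Groth.Agent.FBase12

theorem isReducedMod_pullback_iso {A B : Scheme.{u}} (e : A ⟶ B) [IsIso e] (M : B.Modules) [Coh.IsQCoh M]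
    (h : AssSch.IsReducedMod M) : AssSch.IsReducedMod ((Scheme.Modules.pullback e).obj M) := by
  refine ⟨fun x hx y hy hyx => ?_, fun x hx => ?_⟩
  · rw [AssPts11.mem_ass_pullback_iff] at hx hy
    exact e.isOpenEmbedding.injective (h.1 _ hx _ hy (hyx.map e.continuous))
  · rw [AssPts11.mem_ass_pullback_iff] at hx
    rw [AssPts11.length_pullback_stalk]
    exact h.2 _ hx

theorem isReducedMod_externalTensor {k : Type u} [Field k] {X Y : Scheme.{u}}
    [IsLocallyNoetherian X] [IsLocallyNoetherian Y] (f : X ⟶ Spec (CommRingCat.of k)) (g : Y ⟶ Spec (CommRingCat.of k))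
    [IsLocallyNoetherian (pullback f g)] (F : X.Modules) (hF : Coh.IsCoh F) (G : Y.Modules) (hG : Coh.IsCoh G)
    (hFgr : ∀ (k' : Type u) [Field k'] [Algebra k k'] [FiniteDimensional k k'] [IsPurelyInseparable k k'],
      AssSch.IsReducedMod ((Scheme.Modules.pullback (FBase.bcπ f k')).obj F))
    (hGr : AssSch.IsReducedMod G) :
    AssSch.IsReducedMod (CohB1.tensorMod ((Scheme.Modules.pullback (pullback.fst f g)).obj F)
      ((Scheme.Modules.pullback (pullback.snd f g)).obj G)) := by
  haveI : Coh.IsQCoh F := hF.1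
  have hF' : Coh.IsCoh ((Scheme.Modules.pullback (pullback.fst f g)).obj F) := M1.isCoh_pullback _ hF
  have hfl : FlatMod.IsFlatOver (pullback.snd f g) ((Scheme.Modules.pullback (pullback.fst f g)).obj F) := fun x =>
    FlatH4.isFlatOverAt_baseChange (IsPullback.of_hasPullback f g) F x (AssField12.isFlatOver_spec_field f F _)
  rw [isReducedMod_congr (M2.tensorComm _ _), Groth.Agent.S2546.result (pullback.snd f g) G hG _ hF' hfl]
  rintro y ⟨hy, -⟩
  refine ⟨fun y' hy' h => (hGr.1 y hy y' hy' h).symm, hGr.2 y hy, ?_⟩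
  obtain ⟨φ, hφ⟩ := exists_alg_residue g y
  letI := φ.toAlgebra
  let t := Y.fromSpecResidueField y
  let e : (pullback.snd f g).fiber y ≅ FBase.bc f (Y.residueField y) :=
    pullbackLeftPullbackSndIso f g t ≪≫ pullback.congrHom rfl hφ.symm
  have he : e.hom ≫ FBase.bcπ f (Y.residueField y) = (pullback.snd f g).fiberι y ≫ pullback.fst f g := by
    show (pullbackLeftPullbackSndIso f g t ≪≫ pullback.congrHom rfl hφ.symm).hom ≫ pullback.fst f _ = pullback.fst _ t ≫ _
    rw [Iso.trans_hom, Category.assoc, pullback.congrHom_hom, pullback.lift_fst, Category.comp_id,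
      pullbackLeftPullbackSndIso_hom_fst]
  haveI := isLocallyNoetherian_fibre (pullback.snd f g) y
  haveI : IsLocallyNoetherian (FBase.bc f (Y.residueField y)) := isLocallyNoetherian_of_isOpenImmersion e.inv
  haveI := M1.isQCoh_pullback (FBase.bcπ f (Y.residueField y)) (M := F) inferInstance
  refine (isReducedMod_congr ((Scheme.Modules.pullbackComp e.hom (FBase.bcπ f (Y.residueField y))).app F ≪≫
    (Scheme.Modules.pullbackCongr he).app F ≪≫
    ((Scheme.Modules.pullbackComp ((pullback.snd f g).fiberι y) (pullback.fst f g)).app F).symm)).1 ?_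
  exact isReducedMod_pullback_iso e.hom _ (isReducedMod_bc_of_forall f (Y.residueField y) F hF hFgr)

end Groth.Agent.FBase12
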